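import Mathlib.RingTheory.Ideal.Height
import Mathlib.RingTheory.Ideal.KrullsHeightTheorem

set_option autoImplicit false
universe u

namespace Groth.LocCohDim

variable {R : Type u} [CommRing R] [IsNoetherianRing R]

/-- `r` elements of `I` cut out `V(I)` among the primes of height below `r`. -/
theorem exists_fin_height (I : Ideal R) (r : ℕ) : ∃ f : Fin r → R, (∀ i, f i ∈ I) ∧
    ∀ (p : Ideal R) [p.IsPrime], Ideal.span (Set.range f) ≤ p → ¬ I ≤ p → (r : ℕ∞) ≤ p.height := by
  induction r with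
  | zero => exact ⟨Fin.elim0, fun i => i.elim0, fun p _ _ _ => by simp⟩
  | succ r ih =>
    obtain ⟨f, hf, hmin⟩ := ih
    set S : Set (Ideal R) := {q ∈ (Ideal.span (Set.range f)).minimalPrimes | ¬ I ≤ q}
    have hS : S.Finite := (Ideal.finite_minimalPrimes_of_isNoetherianRing R _).subset fun q hq => hq.1
    have hns : ¬ (I : Set R) ⊆ ⋃ q ∈ S, (q : Set R) := by
      intro h
      obtain ⟨q, hq, hle⟩ := (Ideal.subset_union_prime_finite hS (f := fun q => q) ⊥ ⊥
        (fun q hq _ _ => hq.1.1.1)).1 h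
      exact hq.2 hle
    obtain ⟨x, hxI, hx⟩ := Set.not_subset.1 hns
    refine ⟨Fin.snoc f x, Fin.lastCases (by simpa using hxI) (fun i => by simpa using hf i),
      fun p _ hp hIp => ?_⟩
    have hxp : x ∈ p := hp (Ideal.subset_span ⟨Fin.last r, by simp⟩)
    have hfp : Ideal.span (Set.range f) ≤ p :=
      le_trans (Ideal.span_mono (by rintro _ ⟨i, rfl⟩; exact ⟨i.castSucc, by simp⟩)) hp
    obtain ⟨q, hq, hqp⟩ := Ideal.exists_minimalPrimes_le hfp
    have hIq : ¬ I ≤ q := fun h => hIp (h.trans hqp)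
    have := hq.1.1
    have hlt : q < p := lt_of_le_of_ne hqp fun h => hx (by
      subst h
      exact Set.mem_biUnion (x := q) ⟨hq, hIq⟩ hxp)
    calc ((r + 1 : ℕ) : ℕ∞) = (r : ℕ∞) + 1 := by simp
      _ ≤ q.height + 1 := by gcongr; exact hmin q hq.1.2 hIq
      _ ≤ p.height := Ideal.height_add_one_le_of_lt_of_isPrime hlt

omit [IsNoetherianRing R] in
theorem radical_eq_of_forall {I J : Ideal R} (hJI : J ≤ I)
    (h : ∀ (p : Ideal R) [p.IsPrime], J ≤ p → I ≤ p) : I.radical = J.radical := by
  refine le_antisymm ?_ (Ideal.radical_mono hJI)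
  rw [Ideal.radical_le_radical_iff, Ideal.radical_eq_sInf J, le_sInf_iff]
  rintro p ⟨hJp, hp⟩
  exact h p hJp

/-- Between two primes with a gap of height above one there is a prime avoiding a given element. -/
theorem exists_prime_lt_lt_not_mem (s q : Ideal R) [s.IsPrime] [q.IsPrime] (hsq : s < q)
    (hht : 1 < (q.map (Ideal.Quotient.mk s)).height) (a : R) (has : a ∉ s) :
    ∃ t : Ideal R, t.IsPrime ∧ s < t ∧ t < q ∧ a ∉ t := by
  by_contra hcon
  simp only [not_exists, not_and, not_not] at hcon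
  set π := Ideal.Quotient.mk s
  have hπ : Function.Surjective π := Ideal.Quotient.mk_surjective
  set T : Set (Ideal R) := {t ∈ (s ⊔ Ideal.span {a}).minimalPrimes | t < q}
  have hT : T.Finite := (Ideal.finite_minimalPrimes_of_isNoetherianRing R _).subset fun t ht => ht.1
  have hne : ∀ t : Ideal R, s ≤ t → t ≤ q → (t.map π).height ≤ 1 → t ≠ q := by
    rintro t - - h rfl; exact absurd h (not_le.2 hht)
  have hcov : (q : Set R) ⊆ ⋃ t ∈ ({s} ∪ T : Set (Ideal R)), (t : Set R) := by
    intro x hxq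
    by_cases hxs : x ∈ s
    · exact Set.mem_biUnion (x := s) (Or.inl rfl) hxs
    have hle : s ⊔ Ideal.span {x} ≤ q := sup_le hsq.le ((Ideal.span_singleton_le_iff_mem q).2 hxq)
    obtain ⟨t, ht, htq⟩ := Ideal.exists_minimalPrimes_le hle
    have := ht.1.1
    have hxt : x ∈ t := ht.1.2 (Ideal.mem_sup_right (Ideal.mem_span_singleton_self x))
    have hst : s ≤ t := le_sup_left.trans ht.1.2
    have hlt : s < t := lt_of_le_of_ne hst fun h => hxs (h ▸ hxt)
    have hh : (t.map π).height ≤ 1 := Ideal.map_height_le_one_of_mem_minimalPrimes ht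
    have htq' : t < q := lt_of_le_of_ne htq (hne t hst htq hh)
    have hat : a ∈ t := hcon t inferInstance hlt htq'
    obtain ⟨t', ht', ht't⟩ := Ideal.exists_minimalPrimes_le
      (show s ⊔ Ideal.span {a} ≤ t from sup_le hst ((Ideal.span_singleton_le_iff_mem t).2 hat))
    refine Set.mem_biUnion (x := t') (Or.inr ⟨ht', ht't.trans_lt htq'⟩) ?_
    suffices t' = t by rw [this]; exact hxt
    by_contra hne'
    have := ht'.1.1
    have hst' : s < t' := lt_of_le_of_ne (le_sup_left.trans ht'.1.2) fun h =>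
      has (h ▸ ht'.1.2 (Ideal.mem_sup_right (Ideal.mem_span_singleton_self a)))
    have hk : RingHom.ker π = s := Ideal.mk_ker
    have hp1 : (t'.map π).IsPrime := Ideal.map_isPrime_of_surjective hπ (hk.symm ▸ hst'.le)
    have hp2 : (t.map π).IsPrime := Ideal.map_isPrime_of_surjective hπ (hk.symm ▸ hst)
    have hc : ∀ u : Ideal R, s ≤ u → (u.map π).comap π = u := fun u hu => by
      rw [Ideal.comap_map_of_surjective π hπ]
      exact sup_eq_left.2 (hk.le.trans hu)
    have h1 : (⊥ : Ideal (R ⧸ s)) < t'.map π := bot_lt_iff_ne_bot.2 fun h =>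
      hst'.not_ge ((hc t' hst'.le) ▸ h ▸ (hk.le : RingHom.ker π ≤ s))
    have h2 : t'.map π < t.map π := lt_of_le_of_ne (Ideal.map_mono ht't) fun h => hne' (by
      rw [← hc t' hst'.le, h, hc t hst])
    have := Ideal.height_add_one_le_of_lt_of_isPrime h2
    have := Ideal.height_add_one_le_of_lt_of_isPrime h1
    have h3 : (1 : ℕ∞) + 1 ≤ (t.map π).height := by
      refine le_trans ?_ ‹(t'.map π).height + 1 ≤ _›
      gcongr
      exact le_trans le_add_self ‹(⊥ : Ideal (R ⧸ s)).height + 1 ≤ _›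
    exact absurd (h3.trans hh) (by decide)
  have hfin : ({s} ∪ T : Set (Ideal R)).Finite := (Set.finite_singleton s).union hT
  obtain ⟨t, ht, hle⟩ := (Ideal.subset_union_prime_finite hfin (f := fun t => t) ⊥ ⊥
    (by rintro t (rfl | ht) _ _
        · infer_instance
        · exact ht.1.1.1)).1 hcov
  rcases ht with rfl | ht
  · exact hsq.not_ge hle
  · exact ht.2.not_ge hle

end Groth.LocCohDim
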